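import Cfsg.Agent.H108.Hall.ALSTool
import Cfsg.Agent.H95.LSx.O73
import Cfsg.Agent.H315.FineOmega

/-!
# S2223: `ALS` for `PΩ_{2m+1}(q)`, `q` odd (helper108)
-/

set_option autoImplicit false

namespace Cfsg.Agent.H108.Hall

open Cfsg.Agent.H125.Hall Cfsg.Agent.H203.LS Cfsg.Agent.H912.Bd Cfsg.Agent.H95.LSx
open Cfsg.Agent.H315.FineOrth (exists_pf prod_pos' basic)
open Cfsg.Agent.H315.FineNum (prod_le four_mul_le)

section

variable {K : Type} [Field K] [Fintype K]

theorem num_odd {q m : ℕ} (hq : 3 ≤ q) (hm : 5 ≤ m) :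
    2 * ((m * (m + 1) + 1) * (q - 1)) + 4 ≤ 3 * (q ^ (m - 1) - 1) := by
  obtain ⟨k, rfl⟩ : ∃ k, m = k + 5 := ⟨m - 5, by omega⟩
  obtain ⟨x, rfl⟩ : ∃ x, q = x + 3 := ⟨q - 3, by omega⟩
  have key : 2 * (((k + 5) * (k + 5 + 1) + 1) * (x + 2)) + 7 ≤ 3 * (x + 3) ^ (k + 4) := by
    clear hm hq
    induction k with
    | zero =>
      norm_num
      nlinarith [sq_nonneg x, mul_nonneg (Nat.zero_le x) (sq_nonneg x), sq_nonneg (x ^ 2)]
    | succ k ih =>
      have h1 : 3 * (x + 3) ^ (k + 1 + 4) = (x + 3) * (3 * (x + 3) ^ (k + 4)) := by ring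
      rw [h1]
      have h2 := Nat.mul_le_mul_left (x + 3) ih
      refine le_trans ?_ h2
      nlinarith [Nat.zero_le x, Nat.zero_le k, mul_nonneg (Nat.zero_le x) (Nat.zero_le k),
        mul_nonneg (Nat.zero_le x) (mul_nonneg (Nat.zero_le k) (Nat.zero_le k))]
  have h3 : x + 3 - 1 = x + 2 := by omega
  have h4 : k + 5 - 1 = k + 4 := by omega
  rw [h3, h4]
  omega

theorem als_odd' {m : ℕ} (hm : 3 ≤ m) (ho : Odd (Fintype.card K)) :
    ALS (Cfsg.POmega K (Cfsg.quadFormOdd m K)) := by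
  obtain ⟨p, f, hp, hf, hq, hpK⟩ := exists_pf (K := K)
  have := Fact.mk hp
  have hs : IsSimpleGroup (Cfsg.POmega K (Cfsg.quadFormOdd m K)) := Cfsg.Agent.S0295.result ho m hm
  have : Finite (Cfsg.isometryGroup K (Cfsg.quadFormOdd m K)) := inferInstance
  have : Finite (Cfsg.POmega K (Cfsg.quadFormOdd m K)) := inferInstance
  have hpo : Odd p := by
    rw [hq] at ho
    exact Nat.Odd.of_mul_left (n := p ^ (f - 1)) (by rwa [← pow_succ', Nat.sub_add_cancel hf])
  have hq2 : 2 ≤ Fintype.card K := Fintype.one_lt_card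
  have hq3 : 3 ≤ Fintype.card K := by
    obtain ⟨k, hk⟩ := ho
    omega
  have hcard := Cfsg.Agent.S0292.result (F := K) rfl ho m hm
  obtain ⟨-, -, h3⟩ := basic (q := Fintype.card K) hp (by rw [hq]; exact dvd_pow_self p (by omega)) hq2 (by norm_num)
    (fun h => by
      have := (Nat.prime_dvd_prime_iff_eq hp Nat.prime_two).1 h
      subst this
      exact absurd hpo (by decide)) (by nlinarith) (prod_pos' hq2) hcard
  have haut : Nat.card (MulAut (Cfsg.POmega K (Cfsg.quadFormOdd m K))) =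
      Fintype.card K ^ (m ^ 2) * (f * ∏ i ∈ Finset.range m, (Fintype.card K ^ (2 * (i + 1)) - 1)) := by
    rw [Cfsg.Agent.S0816.result (F := K) p f hf hq hpo m hm]
    calc 2 * f * Nat.card (Cfsg.POmega K (Cfsg.quadFormOdd m K))
        = f * (2 * Nat.card (Cfsg.POmega K (Cfsg.quadFormOdd m K))) := by ring
      _ = _ := by rw [hcard]; ring
  have hN0 : f * ∏ i ∈ Finset.range m, (Fintype.card K ^ (2 * (i + 1)) - 1) ≠ 0 := by
    have h4 := prod_pos' (k := m) hq2
    exact Nat.mul_ne_zero (by omega) (by omega)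
  have hNle : f * ∏ i ∈ Finset.range m, (Fintype.card K ^ (2 * (i + 1)) - 1) ≤
      Fintype.card K ^ (m * (m + 1) + 1) := by
    have h4 := four_mul_le hp.two_le hf hq
    calc _ ≤ Fintype.card K * Fintype.card K ^ (m * (m + 1)) := Nat.mul_le_mul (by omega) (prod_le _ _)
      _ = _ := by rw [pow_succ, mul_comm]
  have hv := v2_le_of_card ho hN0 haut (hNle.trans (pow_le_two (by omega)))
  have hNoR : ¬ (m = 3 ∧ Fintype.card K = 3) → NoR.{0} p (Cfsg.POmega K (Cfsg.quadFormOdd m K)) := fun h33 => by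
    refine NoR.of_cyclic (S2094.result (F := K) rfl ho m hm h33) ?_
    rw [Nat.coprime_two_left]
    exact hpo
  by_cases hK3 : Fintype.card K = 3 ∧ m ≤ 4
  · -- `q = 3`, `m = 3, 4`
    obtain ⟨hK3, hm4⟩ := hK3
    have hpf : p = 3 ∧ f = 1 := by
      rw [hK3] at hq
      have h5 : p = 3 := ((Nat.prime_dvd_prime_iff_eq hp Nat.prime_three).1 (by rw [hq]; exact dvd_pow_self p (by omega)))
      refine ⟨h5, ?_⟩
      subst h5
      have h6 : 3 ^ 1 = 3 ^ f := by rw [pow_one]; exact hq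
      exact (Nat.pow_right_injective (le_refl 2 |>.trans (by norm_num)) h6).symm
    obtain ⟨rfl, rfl⟩ := hpf
    rcases (show m = 3 ∨ m = 4 by omega) with rfl | rfl
    · have hv' : v2 (Cfsg.POmega K (Cfsg.quadFormOdd 3 K)) ≤ 16 := by
        refine v2_le_of_not_dvd ho hN0 haut ?_
        rw [hK3]
        decide
      exact als_of_ls h3 (ls_o73 hK3) (by norm_num) (by omega) (fun _ => hv')
    · have hv' : v2 (Cfsg.POmega K (Cfsg.quadFormOdd 4 K)) ≤ 16 := by
        refine v2_le_of_not_dvd ho hN0 haut ?_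
        rw [hK3]
        decide
      refine als_of_ls h3 (LS.of_bd (d := 26) (hNoR (by omega)) fun k _ hk => ?_) (by norm_num) (by omega) (fun _ => hv')
      have h6 := bd_pomega_odd_cube (F := k) hp hk hpK (m := 4) (K := K) (by norm_num)
      rw [hK3] at h6
      exact h6
  · by_cases hm5 : 5 ≤ m
    · have h5 : 3 ^ 4 ≤ Fintype.card K ^ (m - 1) :=
        (Nat.pow_le_pow_left hq3 4).trans (Nat.pow_le_pow_right (by omega) (by omega))
      have h6 := num_odd hq3 hm5
      exact als_of_ls h3 (LS.of_bd (hNoR (by omega)) fun k _ hk => bd_pomega_odd_sl hp hk hpK hm) (by omega) (by omega)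
        (by omega)
    · have hq5 : 5 ≤ Fintype.card K := by
        obtain ⟨k, hk⟩ := ho
        omega
      have h5 : 5 ^ 3 ≤ Fintype.card K ^ 3 := Nat.pow_le_pow_left hq5 3
      have h7 : 25 * Fintype.card K ≤ Fintype.card K ^ 3 := by
        calc 25 * Fintype.card K = 5 ^ 2 * Fintype.card K := by norm_num
          _ ≤ Fintype.card K ^ 2 * Fintype.card K := Nat.mul_le_mul_right _ (Nat.pow_le_pow_left hq5 2)
          _ = _ := by ring
      have h6 : 2 * ((m * (m + 1) + 1) * (Fintype.card K - 1)) + 4 ≤ 3 * (Fintype.card K ^ 3 - 1) := by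
        rcases (show m = 3 ∨ m = 4 by omega) with rfl | rfl
        · omega
        · omega
      exact als_of_ls h3 (LS.of_bd (hNoR (by omega)) fun k _ hk => bd_pomega_odd_cube hp hk hpK hm) (by omega) (by omega)
        (by omega)

end

/-- **`ALS` for `PΩ_{2m+1}(q)`, `q` odd, `m ≥ 3`.** -/
theorem als_odd {T : Type} [Group T] [Finite T] [IsSimpleGroup T] {r : ℕ} (hr : r.Prime) (hr2 : r ≠ 2)
    (h : Cfsg.IsPOmegaOddChar r T) : ALS T := by
  obtain ⟨F, _, _, _, m, hm, ho, ⟨e⟩⟩ := h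
  exact ALS.congr' e (als_odd' hm ho)

end Cfsg.Agent.H108.Hall
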