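import Cfsg.Agent.H125.Hall.Defs
import Cfsg.Agent.H95.LSx.Sub

/-!
# S2223: tools for the rows `ALS` (helper108)

* `ALS.congr'`, `v2_congr` : isomorphisms;
* `als_of_ls` : `ALS T` from a lower bound `LS r d T` and an upper bound for `v2 T`;
* `v2_le_of_card`, `v2_le_of_not_dvd` : upper bounds for `v2 T` from the order of `Aut T`.
-/

set_option autoImplicit false

namespace Cfsg.Agent.H108.Hall

open Cfsg.Agent.H125.Hall Cfsg.Agent.H203.LS

theorem v2_congr {T T' : Type*} [Group T] [Group T'] (e : T ≃* T') : v2 T = v2 T' := by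
  unfold v2
  rw [Nat.card_congr (MulAut.congr e).toEquiv]

theorem PR.congr {T T' : Type} [Group T] [Group T'] (e : T ≃* T') {m : ℕ} (h : PR m T) : PR m T' := by
  obtain ⟨k, _, P, _, _, π, ρ, h1, h2, h3, h4, h5⟩ := h
  refine ⟨k, inferInstance, P, inferInstance, inferInstance, e.toMonoidHom.comp π, ρ, e.surjective.comp h1, ?_, h3, h4, ?_⟩
  · intro x hx
    apply h2
    rw [MonoidHom.mem_ker, MonoidHom.comp_apply] at hx
    rw [MonoidHom.mem_ker]
    exact e.map_eq_one_iff.1 hx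
  · rwa [← Nat.card_congr e.toEquiv]

theorem ALS.congr' {T T' : Type} [Group T] [Group T'] (e : T ≃* T') (h : ALS T') : ALS T := by
  intro m hm
  rw [v2_congr e]
  exact h m (PR.congr e hm)

/-- `LS` bounds the degrees in `PR` -/
theorem le_of_pr {T : Type} [Group T] {r d m : ℕ} (hr : r ∣ Nat.card T) (h : LS.{0, 0, 0} r d T) (hm : PR m T) :
    d ≤ m := by
  obtain ⟨k, _, P, _, _, π, ρ, h1, h2, h3, h4, h5⟩ := hm
  refine h P π h1 h2 h3 k ?_ m ρ h4
  intro h6
  apply h5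
  obtain ⟨c, hc⟩ := hr
  rw [hc, Nat.cast_mul, h6, zero_mul]

/-- **`ALS` from `LS`.** -/
theorem als_of_ls {T : Type} [Group T] {r d : ℕ} (hr : r ∣ Nat.card T) (h : LS.{0, 0, 0} r d T) (hd : 6 ≤ d)
    (h1 : 2 * v2 T + 4 ≤ 3 * d) (h2 : d ≤ 27 → v2 T ≤ 16) : ALS T := by
  intro m hm
  have h3 := le_of_pr hr h hm
  refine ⟨fun h4 => by omega, fun h4 => by omega, fun _ => by omega, fun h4 => h2 (by omega)⟩

/-- odd factors do not matter -/
theorem fac_mul {q a N : ℕ} (hq : Odd q) (hN : N ≠ 0) : (q ^ a * N).factorization 2 = N.factorization 2 := by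
  have hq0 : q ≠ 0 := by rintro rfl; exact absurd hq (by decide)
  rw [Nat.factorization_mul (pow_ne_zero _ hq0) hN, Finsupp.add_apply, Nat.factorization_pow, Finsupp.smul_apply,
    Nat.factorization_eq_zero_of_not_dvd (fun h => (Nat.not_even_iff_odd.2 hq) (even_iff_two_dvd.2 h)), smul_zero,
    zero_add]

theorem v2_eq {T : Type*} [Group T] {q a N : ℕ} (hq : Odd q) (hN : N ≠ 0) (h : Nat.card (MulAut T) = q ^ a * N) :
    v2 T = N.factorization 2 := by
  unfold v2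
  rw [h, fac_mul hq hN]

theorem v2_le_of_not_dvd {T : Type*} [Group T] {q a N b : ℕ} (hq : Odd q) (hN : N ≠ 0)
    (h : Nat.card (MulAut T) = q ^ a * N) (hb : ¬ 2 ^ (b + 1) ∣ N) : v2 T ≤ b := by
  rw [v2_eq hq hN h]
  by_contra hcon
  exact hb ((Nat.prime_two.pow_dvd_iff_le_factorization hN).2 (by omega))

theorem v2_le_of_card {T : Type*} [Group T] {q a N b : ℕ} (hq : Odd q) (hN : N ≠ 0)
    (h : Nat.card (MulAut T) = q ^ a * N) (hb : N ≤ 2 ^ b) : v2 T ≤ b := by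
  rw [v2_eq hq hN h]
  have h1 : 2 ^ (N.factorization 2) ≤ N := Nat.le_of_dvd (Nat.pos_of_ne_zero hN) (Nat.ordProj_dvd N 2)
  exact (Nat.pow_le_pow_iff_right (by norm_num)).1 (h1.trans hb)

/-- `q ^ M ≤ 2 ^ (M (q - 1))` -/
theorem pow_le_two {q M : ℕ} (hq : 1 ≤ q) : q ^ M ≤ 2 ^ (M * (q - 1)) := by
  have h1 : q ≤ 2 ^ (q - 1) := by
    have := Nat.lt_two_pow_self (n := q - 1)
    omega
  calc q ^ M ≤ (2 ^ (q - 1)) ^ M := Nat.pow_le_pow_left h1 M
    _ = 2 ^ (M * (q - 1)) := by rw [← pow_mul, mul_comm]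

end Cfsg.Agent.H108.Hall
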